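import Cfsg.Agent.GSz.A4
import Cfsg.Agent.CIT.A8
import Cfsg.Agent.CIT.R2
import Cfsg.Agent.Ly.Main
import Cfsg.Agent.Ly.T4
import Cfsg.Agent.W.Brauer2
import Cfsg.Agent.H3.ZCor

/-! Glauberman's characterization of the Suzuki groups. -/

set_option autoImplicit false
set_option linter.unusedVariables false
set_option linter.unusedSectionVars false

namespace GSz

open Cfsg Subgroup FT H4 H5 GW
open L (PElt Reg)
open H7 (NPC)

universe u

section Two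

variable {G : Type u} [Group G] [Finite G] {P W : Subgroup G} {w : G}

theorem SW.other [IsSimpleGroup G] (hG : ¬ IsMulCommutative G) (h : SW 2 P W) (hw : w ∈ W)
    (w1 : w ≠ 1) : ∃ g, g * w * g⁻¹ ∈ W ∧ g * w * g⁻¹ ≠ w := by
  by_contra hc
  push Not at hc
  exact hG ⟨⟨H3.comm_of_isolated (h.ord hw w1) (H3.isolated_of_weaklyClosed (h.pelt hw)
    (h.syl.of_le (h.le_c1 hw) le_top) fun g hg => hc g (h.sc w hw g hg))⟩⟩

/-- the excluded configuration -/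
def Exc (P : Subgroup G) : Prop :=
  IsElementaryAbelian 2 P ∧ ∀ x ∈ P, ∀ y ∈ P, x ≠ 1 → y ≠ 1 → ∃ g : G, g * x * g⁻¹ = y

theorem SW.two [IsSimpleGroup G] (hG : ¬ IsMulCommutative G) (h : SW 2 P W) (hw : w ∈ W)
    (w1 : w ≠ 1) : IsStronglyEmbedded (Nor W) ∨ Exc P := by
  have hI : ∀ t : G, orderOf t = 2 → HasNormalPComplement 2 (Cen1 t) := fun t ht =>
    H7.hasNormalPComplement_iff.2 (h.npc t ht)
  by_cases h3 : PRankLE 2 2 G
  · obtain ⟨g, hg, g1⟩ := h.other hG hw w1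
    obtain ⟨n, hn, e⟩ := h.fus hw hg (isConj_iff.2 ⟨g, rfl⟩)
    have w2 := h.ord hw w1
    have f : F4 w (g * w * g⁻¹) := ⟨w2, iconj w2 g, GW.cen.1 (h.cen hw) _ (h.le hg), g1⟩
    have eg : IsConj w (g * w * g⁻¹) := isConj_iff.2 ⟨g, rfl⟩
    generalize g * w * g⁻¹ = a at hg g1 e f eg
    have hV : ∀ x ∈ P, x * x = 1 → x ∈ V4 w a := fun x hx xx =>
      CIT.mem_V_of_rank h3 f (h.le_c1 hw hx) (h.le_c1 hg hx) xx
    have sq : ∀ x ∈ W, x * x = 1 := fun x hx => by rw [← sq]; exact h.exp x hx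
    have eW : W = V4 w a := le_antisymm (fun x hx => hV x (h.le hx) (sq x hx)) (V_le hw hg)
    have nc : n ∉ Cen W := fun k => g1 (e.symm.trans (c1'.1 (c1.2 (GW.cen.1 k w hw))))
    rcases Ly.ab_or_u34 h.syl (Z := W) (eW ▸ f.card_V) (fun x => ⟨fun hx => ⟨h.le hx, sq x hx⟩,
      fun hx => eW ▸ hV x hx.1 hx.2⟩) (fun z hz x hx => c1.1 (h.le_c1 hz hx)) hn nc with k | k
    · have eP := _root_.W.brauer_ab (H8.commutator_eq_top_of_simple hG) h.syl k f (h.le hw) (h.le hg) hV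
      have k3 : IsConj w (w * a) := by
        have wa : w * a ∈ W := mul_mem hw hg
        obtain ⟨c, c1, c2⟩ := h.other hG wa (ine f.hta)
        have ec : IsConj (w * a) (c * (w * a) * c⁻¹) := isConj_iff.2 ⟨c, rfl⟩
        rcases f.mem_V.1 (eW ▸ c1) with e | e | e | e
        · exact (ine (iconj f.hta c) e).elim
        · exact (e ▸ ec).symm
        · exact eg.trans (e ▸ ec).symm
        · exact (c2 e).elim
      have k4 : ∀ x ∈ P, x ≠ 1 → IsConj w x := fun x hx x1 => by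
        rcases f.mem_V.1 (eP ▸ hx) with e | e | e | e
        · exact (x1 e).elim
        · rw [e]
        · exact e ▸ eg
        · exact e ▸ k3
      exact Or.inr ⟨⟨k, fun x hx => h.exp x (eW ▸ eP ▸ hx)⟩, fun x hx y hy x1 y1 =>
        isConj_iff.1 ((k4 x hx x1).symm.trans (k4 y hy y1))⟩
    · exact Or.inl (k.base h.syl hn nc).se
  · have hc := CIT.cit_of_rank hG hI h3
    have W0 : W ≠ ⊥ := fun e => w1 (mem_bot.1 (e ▸ hw))
    refine Or.inl (BS.se_of_sylow (H8.normalizer_ne_top W W0 fun e => hG ⟨⟨fun a b => ?_⟩⟩) h.syl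
      (fun e => W0 (eq_bot_iff.2 (e ▸ h.le))) fun Q hQ Q0 g hg => mnor fun x hx => ?_)
    · exact GW.cen.1 (h.cen (e ▸ mem_top a)) b (h.le (e ▸ mem_top b))
    · obtain ⟨c, hc⟩ := h.into (hc.cen (h.syl.isPGroup.to_le hQ) Q0)
      have k : W ≤ Cen Q := h.cen.trans (centralizer_le hQ)
      have c1 : c ∈ Nor W := mnor fun y hy => (hc y (k hy)).2 y hy (IsConj.refl y)
      exact H5.mem_of_eq (cmem' c1 ((hc _ (cmem (mcen hg) (k hx))).2 x hx
        (isConj_iff.2 ⟨g, rfl⟩))) (by group)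

theorem SW.sz (h : SW 2 P W) (hO : oddCore G = ⊥) (hs : IsStronglyEmbedded (Nor W)) :
    Exc P ∨ Lie.IsoSuzuki G := by
  obtain ⟨Q, D, t, k, c⟩ := BS.seThm G _ hs (BS.rk2_top_iff.mp (BS.rk2_of_se hs hO)) hO
  have eQ : Q = P := h.syl.eq_of_le c.two
    (k.toA1.two_le_Q (cnor (le_cen_symm h.cen)) h.syl.isPGroup) le_top
  obtain ⟨s, hs⟩ := k.toA1.exists_dist
  have kc : ∀ d ∈ D, d ∈ Cen1 s → d ∈ Cen Q := fun d hd ds =>
    (h.npc s (orderOf_eq_two' hs.2.2.1 hs.2.1)).mem_centralizer c.two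
      (fun x hx => c1.2 (k.toA1.inv_comm k.a3 hs.1 hs.2.2.1 hx)) ds (k.sd.nor hd)
      (odd_iff_cop.1 (odd_ord k.odd hd))
  rcases c.tri s hs with ⟨e, -⟩ | ⟨-, -, -, m, F, i1, i2, h1, h2, -, h3⟩ |
    ⟨-, -, -, ⟨w, w1, w2, w3⟩, -⟩
  · subst eQ
    refine Or.inl ⟨e ▸ k.toA1.Q0_elem k.a3, fun x hx y hy x1 y1 => ?_⟩
    obtain ⟨g, -, e⟩ := k.toA1.conj_inv (mem_top x) x1 (k.toA1.Q0_sq k.a3 (e.ge hx)) (mem_top y) y1
      (k.toA1.Q0_sq k.a3 (e.ge hy))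
    exact ⟨g, e⟩
  · have e : BS.Fg Q t = ⊤ := top_le_iff.1 (k.toA1.le_of_gen' BS.A1.Q_le_Fg (fun d hd => by
      obtain ⟨a, ha, v, hv, rfl⟩ := k.toA1.exists_KV hd
      rw [k.toA1.V_eq hs] at hv
      rw [mem_bot.1 (k.faith.le ⟨hv.1, kc v hv.1 hv.2⟩), mul_one]
      exact k.toA1.Kg_le_Fg (BS.A1.mem_Kg_of ha)) BS.A1.t_mem_Fg)
    obtain ⟨f⟩ := k.equiv_of_cquot h3
    exact Or.inr ⟨F, i1, i2, m, h1, h2,
      ⟨(topEquiv.symm.trans (MulEquiv.subgroupCongr e.symm)).trans f⟩⟩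
  · exact (w3 (kc w w1 (c1.2 (GW.cen.1 w2 s ((k.toA1.mem_Q0 k.a3).2 ⟨hs.1, hs.2.2.1⟩))))).elim

end Two

variable {G : Type u} [Group G] [Finite G] {p : ℕ} [hp : Fact p.Prime] {P W L : Subgroup G}
  {w : G}

theorem SW.pCore_eq (h : SW p P W) (hW : ∀ x ∈ P, x ∈ Cen P → x ^ p = 1 → x ∈ W)
    (hO : pPrimeCore p G = ⊥) (hn : ¬ P.Normal) : pCore p G = ⊥ := by
  by_contra hc
  have h1 : pCore p G ≤ P := h.syl.le_of_le_normalizer (isPGroup_pCore p G) le_top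
    (by rw [normalizer_eq_top]; exact le_top)
  obtain ⟨z, z1, z2, z3⟩ := exists_mem_center_of_isNilpotent h.syl.isPGroup.isNilpotent h1
    (by rw [normalizer_eq_top]; exact le_top) hc
  obtain ⟨n, hn'⟩ := exists_ord h.syl.isPGroup (h1 z1) z2
  have z4 : z ^ n ∈ W := hW _ (h1 (pow_mem z1 n)) (pow_mem z3 n) (hn' ▸ pow_orderOf_eq_one _)
  have hV : normalClosure {z ^ n} ≤ W := closure_le _ |>.2 fun x hx => by
    obtain ⟨a, rfl, e⟩ := Group.mem_conjugatesOfSet_iff.1 hx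
    obtain ⟨c, rfl⟩ := isConj_iff.1 e
    exact h.sc _ z4 c (h1 (Normal.conj_mem inferInstance _ (pow_mem z1 n) c))
  have k := (h.npc _ hn').mono (K := Cen (normalClosure {z ^ n}))
    fun a ha => c1.2 (GW.cen.1 ha _ (subset_normalClosure rfl))
  have k2 : pPrimeCoreIn p (Cen (normalClosure {z ^ n})) = ⊥ := eq_bot_iff.2 (by
    rw [← hO, ← pPrimeCoreIn_top]
    exact le_pPrimeCoreIn le_top (le_trans (by rw [normalizer_eq_top])
      (normalizer_le_normalizer_pPrimeCoreIn p _)) (coprime_card_pPrimeCoreIn p _))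
  refine hn (h.syl.eq_of_le (R := Cen (normalClosure {z ^ n})) (isPGroup_iff_forall.2 fun x hx => ?_)
    (le_cen_symm (hV.trans h.cen)) le_top ▸ inferInstance)
  obtain ⟨j, hj⟩ := H7.npc_iff_pPrimeCoreIn.1 k x hx
  exact ⟨j, mem_bot.1 (k2.le hj)⟩

theorem exists_simple (hb : ∀ x : G, orderOf x = p → NPC p (Cen1 x)) (hO : pPrimeCore p G = ⊥)
    (hQ : pCore p G = ⊥) (h1 : (⊥ : Subgroup G) ≠ ⊤) : ∃ L : Subgroup G, L.Normal ∧
      IsSimpleGroup L ∧ ¬ IsMulCommutative L ∧ p ∣ Nat.card L := by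
  have hF : fittingSubgroup G = ⊥ := (fitting_eq_pCore hO).trans hQ
  obtain ⟨L, hL⟩ : ∃ K, CompIn (⊤ : Subgroup G) K := by
    by_contra e
    push Not at e
    have hC := centralizer_gfit_le (G := G)
    rw [gfit_eq, ← layerIn_top, layerIn_eq_bot_iff'.2 e, hF, bot_sup_eq] at hC
    exact h1 (top_le_iff.1 (le_trans (fun x _ => GW.cen.2 fun y hy => by simp [mem_bot.1 hy]) hC))
  have hs : ∀ K, CompIn (⊤ : Subgroup G) K → K ⊓ Cen K = ⊥ := fun K hK =>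
    eq_bot_iff.2 (hK.center_le_fittingIn.trans (fittingIn_top.trans hF).le)
  have hd : ∀ K, CompIn (⊤ : Subgroup G) K → p ∣ Nat.card K := fun K hK =>
    hK.dvd_card ((pPrimeCoreIn_top p).trans hO)
  refine ⟨L, normalizer_eq_top_iff.1 (top_le_iff.1 fun g _ => mem_normalizer_iff_conjS.2 ?_),
    QS.simple' hL.2 (hs L hL), hL.2.not_isMulCommutative, hd L hL⟩
  have hK := hL.conjS_of_mem (mem_top g)
  refine (hK.eq_or_commute hL).resolve_right fun e => ?_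
  obtain ⟨x, hx, ox⟩ := exists_orderOf_eq_prime_mem (hd L hL)
  obtain ⟨N, n1, n2, n3, n4⟩ := (hb x ox).mono (K := conjS g L) fun a ha =>
    c1.2 (GW.cen.1 (commutator_eq_bot_iff_le_centralizer.1 e ha) x hx)
  rcases hK.2.normal N n1 n2 with e | e
  · rw [e] at n3
    exact (Nat.Prime.coprime_iff_not_dvd hp.out).1 n3.symm (hd _ hK)
  · have : IsPGroup p (conjS g L) := isPGroup_iff_forall.2 fun y hy => by
      obtain ⟨j, hj⟩ := n4 y hy
      exact ⟨j, mem_bot.1 ((hs _ hK).le ⟨n1 hj, e hj⟩)⟩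
    exact hK.2.not_isSolvable (by have := this.isNilpotent; infer_instance)

theorem SW.sub (h : SW p P W) [hL : L.Normal] : SW p (P.subgroupOf L) (W.subgroupOf L) := by
  refine ⟨?_, fun x hx => h.le hx, fun x hx => GW.cen.2 fun y hy =>
    Subtype.ext (GW.cen.1 (h.cen hx) y hy), fun x hx => Subtype.ext (h.exp x hx),
    fun x hx g hg => h.sc x hx g hg, fun x hx => ?_⟩
  · have := (h.syl.inf_of_le_normalizer (N := L) le_top
      (by rw [normalizer_eq_top]; exact le_top)).subgroupOf le_rfl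
    rwa [subgroupOf_self, inf_subgroupOf_right] at this
  · refine (H7.npc_map_iff_of_injective L.subtype_injective).1
      ((h.npc x (by rw [Subgroup.orderOf_coe, hx])).mono ?_)
    rintro _ ⟨y, hy, rfl⟩
    exact c1.2 (congrArg Subtype.val (c1.1 hy))

theorem PS.sub (h : PS p G) (L : Subgroup G) : PS p L := fun x y hx hy => by
  have := h x y (by rw [Subgroup.orderOf_coe, hx]) (by rw [Subgroup.orderOf_coe, hy])
  have e : (closure {x, y}).map L.subtype = closure {(x : G), (y : G)} := by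
    rw [MonoidHom.map_closure, Set.image_pair]; rfl
  rw [← e] at this
  exact isPSolvable_of_injective ((closure {x, y}).equivMapOfInjective _
    L.subtype_injective).toMonoidHom (MulEquiv.injective _) this

theorem SW.le_of (h : SW p P W) [hL : L.Normal] {g : G} (hw : w ∈ W) (hg : g ∈ L)
    (h1 : g * w * g⁻¹ ∈ W) (h2 : g * w * g⁻¹ ≠ w) : P ≤ L := by
  obtain ⟨n, hn, e⟩ := h.fus hw h1 (isConj_iff.2 ⟨g, rfl⟩)
  have w1 : w ≠ 1 := fun e => h2 (by simp [e])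
  obtain ⟨a, b, a1, b1, c, e1, a2, b2⟩ := _root_.L.exists_decomp (p := p) n
  have a3 : a ∈ P := h.syl.le_of_le_normalizer' a1.isPGroup_zpowers le_top
    (zpowers_le.2 (zpowers_le.2 hn a2)) (mem_zpowers a)
  have b3 : b ∈ Nor P := zpowers_le.2 hn b2
  have e2 : b * w * b⁻¹ = g * w * g⁻¹ := by
    rw [← e, e1, c.eq, ← c1'.1 (h.le_c1 hw a3)]; nth_rw 2 [c1'.1 (h.le_c1 hw a3)]; group
  have b4 : b ∉ Cen P := fun k => h2 (e2.symm.trans (c1'.1 (c1.2 (GW.cen.1 k w (h.le hw)))))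
  let π := QuotientGroup.mk' L
  have b5 : π b ∈ (Cen1 w).map π := ⟨g⁻¹ * b, c1'.2 (by
    calc g⁻¹ * b * w * (g⁻¹ * b)⁻¹ = g⁻¹ * (b * w * b⁻¹) * g := by group
      _ = w := by rw [e2]; group), by
    rw [map_mul, (QuotientGroup.eq_one_iff _).2 (inv_mem hg) |> (show π g⁻¹ = 1 from ·), one_mul]⟩
  have b6 := ((h.npc w (h.ord hw w1)).map π).mem_centralizer (h.syl.isPGroup.map π)
    (map_mono (h.le_c1 hw)) b5 (le_normalizer_map π ⟨b, b3, rfl⟩) (Reg.map b1 π)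
  let f : P → P := fun x => ⟨(x : G)⁻¹ * (b * x * b⁻¹), mul_mem (inv_mem x.2) (cmem b3 x.2)⟩
  have fi : Function.Injective f := fun x y e => by
    replace e : (x : G)⁻¹ * (b * x * b⁻¹) = (y : G)⁻¹ * (b * y * b⁻¹) := congrArg Subtype.val e
    by_contra hxy
    refine b4 (fpf h.npc h.syl.isPGroup b3 b1 (mul_mem x.2 (inv_mem y.2))
      (fun e => hxy (Subtype.ext (mul_inv_eq_one.1 e))) (c1'.2 ?_))
    calc b * (x * (y : G)⁻¹) * b⁻¹ = x * ((x : G)⁻¹ * (b * x * b⁻¹)) * (b * (y : G)⁻¹ * b⁻¹) := by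
          group
      _ = x * (y : G)⁻¹ := by rw [e]; group
  intro x hx
  obtain ⟨y, e⟩ := Finite.surjective_of_injective fi ⟨x, hx⟩
  replace e : (y : G)⁻¹ * (b * y * b⁻¹) = x := congrArg Subtype.val e
  rw [← e, ← QuotientGroup.eq_one_iff]
  change π _ = 1
  simp only [map_mul, map_inv]
  rw [GW.cen.1 b6 _ ⟨y, y.2, rfl⟩]
  group

theorem SW.main (h : SW p P W) (hW : ∀ x ∈ P, x ∈ Cen P → x ^ p = 1 → x ∈ W)
    (hN : Nor P ≤ Nor W) (hc : PS p G) (hO : pPrimeCore p G = ⊥) (hn : ¬ P.Normal) :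
    p = 2 ∧ (Exc P ∨ Lie.IsoSuzuki G) := by
  obtain ⟨L, hL, hs, hG, hd⟩ := exists_simple h.npc hO (h.pCore_eq hW hO hn) fun e =>
    hn (by rw [top_le_iff.1 (e.ge.trans (bot_le (a := P)))]; infer_instance)
  have hS := h.syl.inf_of_le_normalizer (N := L) le_top (by rw [normalizer_eq_top]; exact le_top)
  obtain ⟨z, z1, z2, z3⟩ := exists_mem_center_of_isNilpotent h.syl.isPGroup.isNilpotent
    (inf_le_left (b := L)) (ninf le_normalizer (le_top.trans (normalizer_eq_top L).ge))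
    (hS.ne_bot hd)
  obtain ⟨n, hn'⟩ := exists_ord h.syl.isPGroup z1.1 z2
  have w0 : z ^ n ∈ W := hW _ (pow_mem z1.1 n) (pow_mem z3 n) (hn' ▸ pow_orderOf_eq_one _)
  have w1 : (⟨z ^ n, pow_mem z1.2 n⟩ : L) ≠ 1 := fun e => by
    rw [show z ^ n = 1 from congrArg Subtype.val e, orderOf_one] at hn'
    exact hp.out.one_lt.ne hn'
  have h' := h.sub (L := L)
  by_cases hp2 : p = 2
  swap
  · have := Fintype.ofFinite L
    exact (h'.odd hG (hc.sub L) hp2 (u := ⟨z ^ n, pow_mem z1.2 n⟩) w0 w1).elim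
  subst hp2
  refine ⟨rfl, ?_⟩
  obtain ⟨g, g1, g2⟩ := h'.other hG (w := ⟨z ^ n, pow_mem z1.2 n⟩) w0 w1
  have PL : P ≤ L := h.le_of w0 g.2 g1 fun e => g2 (Subtype.ext e)
  rcases h'.two hG (w := ⟨z ^ n, pow_mem z1.2 n⟩) w0 w1 with k | k
  · have nW : ∀ l : L, l ∈ Nor (W.subgroupOf L) ↔ (l : G) ∈ Nor W := fun l =>
      ⟨fun hl => mnor fun x hx => cmem hl (k := ⟨x, PL (h.le hx)⟩) hx,
        fun hl => mnor fun x hx => cmem (K := W) hl hx⟩
    refine h.sz hO (BS.se_of_sylow (fun e => k.1 (top_le_iff.1 fun l _ => (nW l).2 (e ▸ mem_top _)))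
      h.syl (fun e => z2 (mem_bot.1 (e ▸ z1.1))) fun Q hQ Q0 g hg => ?_)
    obtain ⟨l, hl, m⟩ := (h.syl.of_le PL le_top).frattini (g := g)
      (by rw [normalizer_eq_top]; trivial)
    obtain ⟨x, hx, x1⟩ := Q.bot_or_exists_ne_one.resolve_left Q0
    obtain ⟨j, hj⟩ := exists_ord h.syl.isPGroup (hQ hx) x1
    have i1 := pow_mem hx j
    have PW : P ≤ Nor W := le_normalizer.trans hN
    have := (nW ⟨l, hl⟩).1 ((BS.sein_top k).le_of_fix (a := ⟨x ^ j, PL (hQ i1)⟩)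
      ⟨fun e => ine hj (congrArg Subtype.val e), Subtype.ext (ii hj)⟩ ((nW _).2 (PW (hQ i1)))
      (mem_top _) ((nW _).2 (PW (H5.mem_of_eq (cmem m (hQ (cmem' hg i1))) (by
        simp only [coe_mul, coe_inv]; group)))))
    exact H5.mem_of_eq (mul_mem this (hN m)) (by simp)
  · refine Or.inl ⟨⟨isMulCommutative_of_forall fun a ha b hb => congrArg Subtype.val
      (comm_of_isMulCommutative k.1.1 (a := ⟨a, PL ha⟩) (b := ⟨b, PL hb⟩) ha hb),
      fun a ha => congrArg Subtype.val (k.1.2 ⟨a, PL ha⟩ ha)⟩, fun x hx y hy x1 y1 => ?_⟩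
    obtain ⟨g, e⟩ := k.2 ⟨x, PL hx⟩ hx ⟨y, PL hy⟩ hy (fun e => x1 (congrArg Subtype.val e))
      fun e => y1 (congrArg Subtype.val e)
    exact ⟨g, congrArg Subtype.val e⟩

theorem glauberman (hO : pPrimeCore p G = ⊥) (hP : IsSylowOf p P ⊤) (hn : ¬ P.Normal)
    (ha : ∀ x ∈ P, ∀ y ∈ P, (∃ g : G, g * x * g⁻¹ = y) → ∃ n ∈ Nor P, n * x * n⁻¹ = y)
    (hb : ∀ x ∈ P, orderOf x = p → HasNormalPComplement p (Cen1 x)) (hc : PS p G) :
    p = 2 ∧ (Exc P ∨ Lie.IsoSuzuki G) := by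
  let W : Subgroup G :=
    { carrier := {x | x ∈ P ∧ x ∈ Cen P ∧ x ^ p = 1}
      one_mem' := ⟨one_mem _, one_mem _, one_pow _⟩
      inv_mem' := fun hx => ⟨inv_mem hx.1, inv_mem hx.2.1, by rw [inv_pow, hx.2.2, inv_one]⟩
      mul_mem' := fun ha hb => ⟨mul_mem ha.1 hb.1, mul_mem ha.2.1 hb.2.1, by
        rw [Commute.mul_pow (GW.cen.1 ha.2.1 _ hb.1), ha.2.2, hb.2.2, mul_one]⟩ }
  have hN : Nor P ≤ Nor W := fun n hn => mnor fun x hx =>
    ⟨cmem hn hx.1, cmem (mcen hn) hx.2.1, by rw [conj_pow, hx.2.2]; group⟩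
  refine SW.main (W := W) ⟨hP, fun x hx => hx.1, fun x hx => hx.2.1, fun x hx => hx.2.2,
    fun x hx g hg => ?_, fun x hx => ?_⟩ (fun x h1 h2 h3 => ⟨h1, h2, h3⟩) hN hc hO hn
  · obtain ⟨n, hn, e⟩ := ha x hx.1 _ hg ⟨g, rfl⟩
    exact e ▸ cmem (hN hn) hx
  · obtain ⟨c, -, h1⟩ := hP.exists_conj_le
      (L.PElt_of_orderOf (k := 1) (by rw [hx, pow_one])).isPGroup_zpowers le_top
    have := (H7.hasNormalPComplement_iff.1 (hb _ (h1 (conj_mem_conjS (mem_zpowers x)))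
      (by rw [oconj, hx]))).map (MulAut.conj c⁻¹).toMonoidHom
    rwa [show Subgroup.map _ _ = _ from conj_c1 c⁻¹ _, show c⁻¹ * (c * x * c⁻¹) * c⁻¹⁻¹ = x by
      group] at this

end GSz
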